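import Cfsg.Agent.Lib.TwoFusion.StrongEmb
import Cfsg.Agent.Lib.UniqueSubgroup

/-!
Groups in which the centraliser of every involution is abelian and a Sylow 2-subgroup is neither cyclic
nor normal: first facts.
-/

set_option autoImplicit false
set_option linter.unusedSectionVars false

namespace CfsgLib.AbInvCent

open Cfsg Subgroup
open CfsgLib.Involutions (mul_self_eq_one_of_orderOf inv_eq_self_of_orderOf orderOf_conj)

variable {G : Type*} [Group G] [Finite G]

/-- The hypotheses. -/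
structure Hyp (T : Sylow 2 G) : Prop where
  nc : ¬ IsCyclic (T : Subgroup G)
  nn : ¬ (T : Subgroup G).Normal
  cent : ∀ t : G, orderOf t = 2 → IsMulCommutative (centralizer ({t} : Set G))

variable {T : Sylow 2 G}

/-- The normaliser of the Sylow subgroup. -/
abbrev Nn (T : Sylow 2 G) : Subgroup G := Subgroup.normalizer ((T : Subgroup G) : Set G)

/-- The centraliser of the Sylow subgroup. -/
abbrev Aa (T : Sylow 2 G) : Subgroup G := Subgroup.centralizer ((T : Subgroup G) : Set G)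

/-- The two-point stabiliser `N ∩ uNu⁻¹`. -/
abbrev Dd (T : Sylow 2 G) (u : G) : Subgroup G := Nn T ⊓ (Nn T).map (MulAut.conj u).toMonoidHom

theorem cent_comm (h : Hyp T) {t a b : G} (ht : orderOf t = 2) (ha : a * t = t * a) (hb : b * t = t * b) :
    a * b = b * a := by
  haveI := h.cent t ht
  exact congrArg Subtype.val (IsMulCommutative.is_comm.comm
    (⟨a, mem_centralizer_singleton_iff.mpr ha⟩ : centralizer ({t} : Set G))
    ⟨b, mem_centralizer_singleton_iff.mpr hb⟩)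

theorem ne_bot (h : Hyp T) : (T : Subgroup G) ≠ ⊥ := fun e => h.nn (by rw [e]; infer_instance)

theorem exists_central_inv (h : Hyp T) : ∃ z ∈ T, orderOf z = 2 ∧ ∀ x ∈ T, x * z = z * x := by
  haveI : Fact (Nat.Prime 2) := ⟨Nat.prime_two⟩
  haveI : Nontrivial ↥(T : Subgroup G) := (Subgroup.nontrivial_iff_ne_bot _).mpr (ne_bot h)
  haveI : Nontrivial ↥(Subgroup.center ↥(T : Subgroup G)) := T.2.center_nontrivial
  obtain ⟨w, hw⟩ := exists_prime_orderOf_dvd_card' (G := ↥(Subgroup.center ↥(T : Subgroup G))) 2 (by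
    obtain ⟨n, hn⟩ := IsPGroup.iff_card.mp (T.2.to_subgroup (Subgroup.center ↥(T : Subgroup G)))
    rw [hn]
    refine dvd_pow_self 2 fun h0 => ?_
    rw [h0, pow_zero] at hn
    exact absurd hn Finite.one_lt_card.ne')
  exact ⟨_, (w : ↥(T : Subgroup G)).2, by rw [Subgroup.orderOf_coe, Subgroup.orderOf_coe, hw],
    fun x hx => congrArg Subtype.val (Subgroup.mem_center_iff.mp w.2 ⟨x, hx⟩)⟩

theorem exists_inv_mem (h : Hyp T) : ∃ t ∈ T, orderOf t = 2 := by
  obtain ⟨z, hz, hzo, -⟩ := exists_central_inv h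
  exact ⟨z, hz, hzo⟩

theorem T_comm (h : Hyp T) {x y : G} (hx : x ∈ T) (hy : y ∈ T) : x * y = y * x := by
  obtain ⟨z, hz, hzo, hc⟩ := exists_central_inv h
  exact cent_comm h hzo (hc x hx) (hc y hy)

theorem mem_A_iff {x : G} : x ∈ Aa T ↔ ∀ t ∈ T, t * x = x * t :=
  Subgroup.mem_centralizer_iff

theorem mem_A_of_commute (h : Hyp T) {t x : G} (ht : t ∈ T) (ho : orderOf t = 2) (hx : x * t = t * x) :
    x ∈ Aa T :=
  mem_A_iff.mpr fun s hs => cent_comm h ho (T_comm h hs ht) hx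

theorem T_le_A (h : Hyp T) : (T : Subgroup G) ≤ Aa T := fun _ hx => mem_A_iff.mpr fun _ ht => T_comm h ht hx

theorem A_comm (h : Hyp T) {a b : G} (ha : a ∈ Aa T) (hb : b ∈ Aa T) : a * b = b * a := by
  obtain ⟨t, ht, ho⟩ := exists_inv_mem h
  exact cent_comm h ho (mem_A_iff.mp ha t ht).symm (mem_A_iff.mp hb t ht).symm

theorem A_le_N : Aa T ≤ Nn T := by
  intro x hx
  refine Subgroup.mem_normalizer_iff.mpr fun t => ⟨fun ht => ?_, fun ht => ?_⟩
  · rwa [← mem_A_iff.mp hx t ht, mul_inv_cancel_right]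
  · have e := mem_A_iff.mp hx _ ht
    rw [show x * (x * t * x⁻¹) = x * x * t * x⁻¹ by group, show x * t * x⁻¹ * x = x * t by group] at e
    have e' : x * t * x⁻¹ = t := by
      calc x * t * x⁻¹ = x⁻¹ * (x * x * t * x⁻¹) := by group
        _ = x⁻¹ * (x * t) := by rw [← e]
        _ = t := by group
    rwa [e'] at ht

theorem N_conj_T {n t : G} (hn : n ∈ Nn T) (ht : t ∈ T) : n * t * n⁻¹ ∈ T :=
  (Subgroup.mem_normalizer_iff.mp hn t).mp ht

theorem N_conj_A {n a : G} (hn : n ∈ Nn T) (ha : a ∈ Aa T) : n * a * n⁻¹ ∈ Aa T := by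
  refine mem_A_iff.mpr fun t ht => ?_
  have e := mem_A_iff.mp ha (n⁻¹ * t * n) (by simpa using N_conj_T (Subgroup.inv_mem _ hn) ht)
  calc t * (n * a * n⁻¹) = n * (n⁻¹ * t * n * a) * n⁻¹ := by group
    _ = n * (a * (n⁻¹ * t * n)) * n⁻¹ := by rw [e]
    _ = n * a * n⁻¹ * t := by group

theorem inv_mem_T {x : G} (hx : x ∈ Nn T) (ho : orderOf x = 2) : x ∈ T := by
  haveI : Fact (Nat.Prime 2) := ⟨Nat.prime_two⟩
  have h2 : IsPGroup 2 ↥(Subgroup.zpowers x ⊔ (T : Subgroup G)) :=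
    (IsPGroup.of_card (n := 1) (by rw [Nat.card_zpowers, ho, pow_one]) : IsPGroup 2 ↥(Subgroup.zpowers x)).to_sup_of_normal_right'
      T.2 (Subgroup.zpowers_le.mpr hx)
  exact le_sup_left.trans (T.3 h2 le_sup_right).le (Subgroup.mem_zpowers x)

theorem even_N (h : Hyp T) : Even (Nat.card ↥(Nn T)) := by
  obtain ⟨t, ht, ho⟩ := exists_inv_mem h
  refine even_iff_two_dvd.mpr (ho ▸ Subgroup.orderOf_dvd_natCard (Nn T) (Subgroup.le_normalizer ht))

/-- An element conjugating an involution of `T` into `T` normalises `T`. -/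
theorem mem_N_of_conj (h : Hyp T) {g s : G} (hs : s ∈ T) (ho : orderOf s = 2) (hg : g * s * g⁻¹ ∈ T) :
    g ∈ Nn T := by
  haveI : Fact (Nat.Prime 2) := ⟨Nat.prime_two⟩
  have key : ∀ x ∈ T, g * x * g⁻¹ ∈ Aa T := fun x hx =>
    mem_A_of_commute h hg (by rw [orderOf_conj, ho]) (by
      rw [show g * x * g⁻¹ * (g * s * g⁻¹) = g * (x * s) * g⁻¹ by group, T_comm h hx hs]; group)
  have hp : IsPGroup 2 ↥((T : Subgroup G) ⊔ (T : Subgroup G).map (MulAut.conj g).toMonoidHom) := by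
    refine T.2.to_sup_of_normal_left' (T.2.map _) ?_
    rintro _ ⟨x, hx, rfl⟩
    exact A_le_N (key x hx)
  have hle : (T : Subgroup G).map (MulAut.conj g).toMonoidHom ≤ (T : Subgroup G) :=
    le_sup_right.trans (T.3 hp le_sup_left).le
  have heq := Subgroup.eq_of_le_of_card_ge hle
    (by rw [Subgroup.card_map_of_injective (f := (MulAut.conj g).toMonoidHom) (MulAut.conj g).injective])
  refine Subgroup.mem_normalizer_iff.mpr fun x => ⟨fun hx => hle ⟨x, hx, rfl⟩, fun hx => ?_⟩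
  rw [← SetLike.mem_coe, ← heq] at hx
  obtain ⟨y, hy, e⟩ := hx
  exact (MulAut.conj g).injective e ▸ hy

theorem se (h : Hyp T) : IsStronglyEmbedded (Nn T) := by
  haveI : Fact (Nat.Prime 2) := ⟨Nat.prime_two⟩
  refine ⟨fun e => h.nn (Subgroup.normalizer_eq_top_iff.mp e), even_N h, fun g hg => ?_⟩
  rw [← Nat.not_even_iff_odd]
  intro he
  obtain ⟨⟨t, ht⟩, hto⟩ := exists_prime_orderOf_dvd_card'
    (G := ↥(Nn T ⊓ (Nn T).map (MulAut.conj g).toMonoidHom)) 2 he.two_dvd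
  rw [Subgroup.orderOf_mk] at hto
  obtain ⟨ht1, s, hs, est⟩ := ht
  have est' : g * s * g⁻¹ = t := est
  have hso : orderOf s = 2 := by rw [← hto, ← est', orderOf_conj]
  exact hg (mem_N_of_conj h (inv_mem_T hs hso) hso (est' ▸ inv_mem_T ht1 hto))

/-- Every involution is conjugate into `T`. -/
theorem exists_conj_T (h : Hyp T) {u : G} (hu : orderOf u = 2) :
    ∃ g : G, g⁻¹ * u * g ∈ T := by
  obtain ⟨g, hg⟩ := StrongEmb.isConj_of_mem (se h) hu
  have := orderOf_conj g⁻¹ u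
  rw [inv_inv] at this
  exact ⟨g, inv_mem_T hg (this.trans hu)⟩

theorem exists_not_mem (h : Hyp T) : ∃ g : G, g ∉ Nn T := by
  by_contra hh
  push Not at hh
  exact (se h).1 ((Subgroup.eq_top_iff' _).mpr hh)

theorem exists_u (h : Hyp T) : ∃ u : G, orderOf u = 2 ∧ u ∉ Nn T := by
  obtain ⟨s, hs, hso⟩ := exists_inv_mem h
  obtain ⟨g, hg⟩ := exists_not_mem h
  exact ⟨g * s * g⁻¹, by rw [orderOf_conj, hso],
    fun hm => hg (StrongEmb.mem_of_conj (se h) (Subgroup.le_normalizer hs) hso hm)⟩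

/-- The number of involutions of `N`. -/
noncomputable abbrev ee (T : Sylow 2 G) : ℕ := Nat.card {t : G // orderOf t = 2 ∧ t ∈ Nn T}

theorem two_le_ee (h : Hyp T) : 2 ≤ ee T := by
  haveI : Fact (Nat.Prime 2) := ⟨Nat.prime_two⟩
  obtain ⟨t, ht, ho⟩ := exists_inv_mem h
  obtain ⟨x, hx, hxo, hxt⟩ : ∃ x ∈ T, orderOf x = 2 ∧ x ≠ t := by
    by_contra hcon
    push Not at hcon
    refine h.nc ?_
    obtain ⟨a, -, ha⟩ := CfsgLib.UniqueSubgroup.exists_generator (p := 2) (z := (⟨t, ht⟩ : ↥(T : Subgroup G))) T.2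
      (by rw [Subgroup.orderOf_mk, ho]) (fun x hx => by
        by_cases hx1 : x = 1
        · exact hx1 ▸ Subgroup.one_mem _
        have hxo : orderOf (x : G) = 2 := by rw [Subgroup.orderOf_coe]; exact orderOf_eq_prime hx hx1
        exact (Subtype.ext (hcon x x.2 hxo) : x = ⟨t, ht⟩) ▸ Subgroup.mem_zpowers _)
      ⊤ (fun x _ y _ => Subtype.ext (T_comm h x.2 y.2))
    exact ⟨⟨a, fun g => Subgroup.mem_zpowers_iff.mp (ha ▸ Subgroup.mem_top g)⟩⟩
  haveI : Nontrivial {t : G // orderOf t = 2 ∧ t ∈ Nn T} :=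
    ⟨⟨⟨x, hxo, Subgroup.le_normalizer hx⟩, ⟨t, ho, Subgroup.le_normalizer ht⟩, fun e => hxt (congrArg Subtype.val e)⟩⟩
  exact Finite.one_lt_card

/-- No involution of `N` inverts a nontrivial element of odd order of `N`. -/
theorem no_inverting {j s : G} (hj : j ∈ Nn T) (ho : orderOf j = 2) (hs : s ∈ Nn T) (hodd : Odd (orderOf s))
    (e : j * s * j⁻¹ = s⁻¹) : s = 1 := by
  have hjT := inv_mem_T hj ho
  have hm : j * (s * j⁻¹ * s⁻¹) ∈ (T : Subgroup G) :=
    (T : Subgroup G).mul_mem hjT (N_conj_T hs ((T : Subgroup G).inv_mem hjT))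
  rw [show j * (s * j⁻¹ * s⁻¹) = j * s * j⁻¹ * s⁻¹ by group, e] at hm
  obtain ⟨k, hk⟩ := IsPGroup.iff_orderOf.mp T.2 ⟨_, hm⟩
  rw [Subgroup.orderOf_mk] at hk
  have h2 : (orderOf (s⁻¹ * s⁻¹)).Coprime 2 := by
    refine Nat.coprime_two_right.mpr (hodd.of_dvd_nat ?_)
    refine orderOf_dvd_of_pow_eq_one ?_
    rw [← sq, ← pow_mul, mul_comm, pow_mul, inv_pow, pow_orderOf_eq_one, inv_one, one_pow]
  rw [hk] at h2
  have h3 : orderOf (s⁻¹ * s⁻¹) = 1 := by
    rcases Nat.eq_zero_or_pos k with h0 | h0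
    · rw [hk, h0, pow_zero]
    · exact absurd h2 (by rw [Nat.coprime_pow_left_iff h0]; norm_num)
  have h4 : s * s = 1 := by
    rw [orderOf_eq_one_iff, ← mul_inv_rev, inv_eq_one] at h3
    exact h3
  by_contra hs1
  rw [Involutions.orderOf_eq_two_iff'.mpr ⟨h4, hs1⟩] at hodd
  exact absurd hodd (by decide)

/-- No involution of a conjugate of `N` inverts a nontrivial element of odd order of it. -/
theorem no_inverting_conj {g j s : G} (hj : g⁻¹ * j * g ∈ Nn T) (ho : orderOf j = 2) (hs : g⁻¹ * s * g ∈ Nn T)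
    (hodd : Odd (orderOf s)) (e : j * s * j⁻¹ = s⁻¹) : s = 1 := by
  have hc : ∀ x : G, orderOf (g⁻¹ * x * g) = orderOf x := fun x => by
    have := orderOf_conj g⁻¹ x
    rwa [inv_inv] at this
  have := no_inverting hj (by rw [hc, ho]) hs (by rw [hc]; exact hodd) (by
    calc g⁻¹ * j * g * (g⁻¹ * s * g) * (g⁻¹ * j * g)⁻¹ = g⁻¹ * (j * s * j⁻¹) * g := by group
      _ = g⁻¹ * s⁻¹ * g := by rw [e]
      _ = _ := by group)
  calc s = g * (g⁻¹ * s * g) * g⁻¹ := by group
    _ = 1 := by rw [this]; group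

/-- Some product of involutions moves `s` to `t`. -/
theorem mem_of_commute_involutions (h : Hyp T) {x : G} (hx : ∀ t : G, orderOf t = 2 → x * t = t * x) :
    x ∈ Subgroup.center G := by
  obtain ⟨s, hs, hso⟩ := exists_inv_mem h
  have hxA : x ∈ Aa T := mem_A_of_commute h hs hso (hx s hso)
  refine Subgroup.mem_center_iff.mpr fun g => ?_
  -- a product of two involutions or one acts as `g` on `s`
  obtain ⟨k, hk, e⟩ : ∃ k : G, x * k = k * x ∧ k * s * k⁻¹ = g * s * g⁻¹ := by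
    have ho : orderOf (g * s * g⁻¹) = 2 := by rw [orderOf_conj, hso]
    by_cases hm : g * s * g⁻¹ ∈ Nn T
    · obtain ⟨u, hu, huH⟩ := exists_u h
      have hu' := inv_eq_self_of_orderOf hu
      obtain ⟨r, hr, -, er⟩ := StrongEmb.exists_reflection (se h) (Subgroup.le_normalizer hs) hso
        (i := u * (g * s * g⁻¹) * u⁻¹) (fun hm' => huH (StrongEmb.mem_of_conj (se h) hm ho hm'))
        (by rw [orderOf_conj, ho])
      refine ⟨u * r, ((show Commute x u from hx u hu).mul_right (hx r hr)).eq, ?_⟩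
      rw [show u * r * s * (u * r)⁻¹ = u * (r * s * r⁻¹) * u⁻¹ by group, er, hu',
        show u * (u * (g * s * g⁻¹) * u) * u = (u * u) * (g * s * g⁻¹) * (u * u) by group,
        mul_self_eq_one_of_orderOf hu, one_mul, mul_one]
    · obtain ⟨r, hr, -, er⟩ := StrongEmb.exists_reflection (se h) (Subgroup.le_normalizer hs) hso hm ho
      exact ⟨r, hx r hr, er⟩
  have hA : k⁻¹ * g ∈ Aa T := mem_A_of_commute h hs hso (by
    calc k⁻¹ * g * s = k⁻¹ * (g * s * g⁻¹) * g := by group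
      _ = k⁻¹ * (k * s * k⁻¹) * g := by rw [e]
      _ = _ := by group)
  calc g * x = k * (k⁻¹ * g * x) := by group
    _ = k * (x * (k⁻¹ * g)) := by rw [A_comm h hA hxA]
    _ = k * x * (k⁻¹ * g) := by group
    _ = x * k * (k⁻¹ * g) := by rw [hk]
    _ = x * g := by group

end CfsgLib.AbInvCent
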