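import Cfsg.Agent.Lib.TwoFusion.CATriple
import Mathlib.Data.ZMod.Basic
import Mathlib.Algebra.BigOperators.Group.Finset.Basic

/-!
A CA-2-group has no subgroup of odd order transitive on the involutions.
-/

set_option autoImplicit false
set_option linter.unusedSectionVars false

namespace CfsgLib.AbInvCent

open Cfsg Subgroup

variable {G : Type*} [Group G] [Finite G] {T : Sylow 2 G}

local notation "Hn" => Subgroup.normalizer ((T : Subgroup G) : Set G)

theorem odd_not_transitive (h : CAGroup.Hyp T) (X : Subgroup G) (hX : Odd (Nat.card X))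
    (htr : ∀ a b : G, orderOf a = 2 → orderOf b = 2 → ∃ x ∈ X, x * a * x⁻¹ = b) : False := by
  classical
  set pt : G ⧸ Hn := QuotientGroup.mk (1 : G) with hpt
  obtain ⟨s, hs, hso⟩ := CAGroup.exists_inv_mem h
  have hXodd : ∀ x ∈ X, Odd (orderOf x) := fun x hx => hX.of_dvd_nat (Subgroup.orderOf_dvd_natCard X hx)
  have htrans : ∀ p : G ⧸ Hn, ∃ x ∈ X, x • pt = p := by
    intro p
    obtain ⟨g, rfl⟩ := QuotientGroup.mk_surjective p
    obtain ⟨x, hx, e⟩ := htr s (g * s * g⁻¹) hso (by rw [Involutions.orderOf_conj, hso])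
    refine ⟨x, hx, ?_⟩
    rw [hpt, MulAction.Quotient.smul_mk, QuotientGroup.eq, smul_eq_mul, mul_one]
    have : x⁻¹ * g ∈ centralizer ({s} : Set G) := mem_centralizer_singleton_iff.mpr (by
      calc x⁻¹ * g * s = x⁻¹ * (g * s * g⁻¹) * g := by group
        _ = x⁻¹ * (x * s * x⁻¹) * g := by rw [e]
        _ = _ := by group)
    rw [CAGroup.centralizer_eq h hs hso] at this
    exact Subgroup.le_normalizer this
  set Y := X ⊓ Hn with hY
  obtain ⟨t, ht, hts⟩ : ∃ t, (orderOf t = 2 ∧ t ∈ Hn) ∧ t ≠ s := by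
    by_contra hc
    push Not at hc
    have : Nat.card {t : G // orderOf t = 2 ∧ t ∈ Hn} = 1 :=
      Nat.card_eq_one_iff_exists.mpr ⟨⟨s, hso, Subgroup.le_normalizer hs⟩, fun i => Subtype.ext (hc i i.2)⟩
    have := CAGroup.card_involutions h
    have := CAGroup.card_T h
    omega
  obtain ⟨y, hyY, hy1⟩ : ∃ y ∈ Y, y ≠ 1 := by
    obtain ⟨x, hx, e⟩ := htr s t hso ht.1
    refine ⟨x, ⟨hx, StrongEmb.mem_of_conj (CAGroup.se h) (Subgroup.le_normalizer hs) hso (e ▸ ht.2)⟩, fun e1 => ?_⟩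
    rw [e1, one_mul, inv_one, mul_one] at e
    exact hts e.symm
  obtain ⟨u, hu, huH⟩ := CAGroup.exists_u h
  have hYcomm : ∀ a ∈ Y, ∀ b ∈ Y, a * b = b * a := by
    intro a ha b hb
    obtain ⟨d, hd, r, hr, rfl⟩ := CAGroup.decomp h hu huH ha.2
    obtain ⟨d', hd', r', hr', rfl⟩ := CAGroup.decomp h hu huH hb.2
    haveI : ((T : Subgroup G).subgroupOf Hn).Normal := Subgroup.normal_in_normalizer
    let π := QuotientGroup.mk' ((T : Subgroup G).subgroupOf Hn)
    have hπ : ∀ (d r : G) (hd : d ∈ Hn) (hr : r ∈ T) (hdr : d * r ∈ Hn), π ⟨d * r, hdr⟩ = π ⟨d, hd⟩ := by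
      intro d r hd hr hdr
      refine QuotientGroup.eq.mpr ?_
      rw [Subgroup.mem_subgroupOf]
      simpa [mul_assoc] using (T : Subgroup G).inv_mem hr
    have hc : (d * r) * (d' * r') * (d * r)⁻¹ * (d' * r')⁻¹ ∈ (T : Subgroup G) := by
      have e : π (⟨d * r, ha.2⟩ * ⟨d' * r', hb.2⟩ * ⟨d * r, ha.2⟩⁻¹ * ⟨d' * r', hb.2⟩⁻¹) = 1 := by
        rw [map_mul, map_mul, map_mul, map_inv, map_inv, hπ d r hd.1 hr, hπ d' r' hd'.1 hr', ← map_inv, ← map_inv,
          ← map_mul, ← map_mul, ← map_mul]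
        rw [show (⟨d, hd.1⟩ : ↥Hn) * ⟨d', hd'.1⟩ * ⟨d, hd.1⟩⁻¹ * ⟨d', hd'.1⟩⁻¹ = 1 from Subtype.ext (by
          push_cast
          rw [CAGroup.D_comm h hu huH hd hd']
          group), map_one]
      have := Subgroup.mem_subgroupOf.mp ((QuotientGroup.eq_one_iff _).mp e)
      simpa using this
    have hcX := X.mul_mem (X.mul_mem (X.mul_mem ha.1 hb.1) (X.inv_mem ha.1)) (X.inv_mem hb.1)
    have h1 := CAGroup.sq_eq_one h hc
    by_contra hne
    have h2 := hXodd _ hcX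
    rw [Involutions.orderOf_eq_two_iff'.mpr ⟨h1, fun e => hne
      (mul_inv_eq_iff_eq_mul.mp (mul_inv_eq_one.mp e))⟩] at h2
    exact absurd h2 (by decide)
  -- an element of prime order of `Y` and its second fixed point
  obtain ⟨r, hr, hrd⟩ := Nat.exists_prime_and_dvd (show Nat.card ↥Y ≠ 1 from fun e =>
    hy1 (by rw [Subgroup.card_eq_one] at e; exact Subgroup.mem_bot.mp (e ▸ hyY)))
  haveI : Fact r.Prime := ⟨hr⟩
  obtain ⟨⟨z, hz⟩, hzo⟩ := exists_prime_orderOf_dvd_card' (G := ↥Y) r hrd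
  rw [Subgroup.orderOf_mk] at hzo
  have hz1 : z ≠ 1 := fun e => hr.ne_one (by rw [← hzo, e, orderOf_one])
  have hzpt : z • pt = pt := CAGroup.smul_pt_iff.mpr hz.2
  obtain ⟨p₁, hp₁, hp₁ne⟩ : ∃ p : G ⧸ Hn, z • p = p ∧ p ≠ pt := by
    by_contra hc
    push Not at hc
    have hP : IsPGroup r ↥(Subgroup.zpowers z) := IsPGroup.of_card (n := 1) (by rw [Nat.card_zpowers, hzo, pow_one])
    have h1 := hP.card_modEq_card_fixedPoints (G ⧸ Hn)
    have h2 : Nat.card (MulAction.fixedPoints ↥(Subgroup.zpowers z) (G ⧸ Hn)) = 1 := by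
      refine Nat.card_eq_one_iff_exists.mpr ⟨⟨pt, ?_⟩, fun p => Subtype.ext (hc p (p.2 ⟨z, Subgroup.mem_zpowers z⟩))⟩
      rintro ⟨_, k, rfl⟩
      exact MulAction.mem_stabilizer_iff.mp ((MulAction.stabilizer G pt).zpow_mem (MulAction.mem_stabilizer_iff.mpr hzpt) k)
    rw [h2, CAGroup.card_coset h] at h1
    obtain ⟨n, hn⟩ := IsPGroup.iff_card.mp T.2
    rw [hn] at h1
    have h3 : r ∣ 2 ^ n := by
      have := (Nat.modEq_iff_dvd' (Nat.le_add_left 1 _)).mp h1.symm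
      simpa using this
    have h4 := (Nat.prime_dvd_prime_iff_eq hr Nat.prime_two).mp (hr.dvd_of_dvd_pow h3)
    have h5 := hXodd z hz.1
    rw [hzo, h4] at h5
    exact absurd h5 (by decide)
  have hbase : ∀ x ∈ X, x • pt = pt → x • p₁ = p₁ := by
    intro x hx hxpt
    by_contra hne
    refine hz1 (CAGroup.three_fixed h (x₁ := pt) (x₂ := p₁) (x₃ := x • p₁) (Ne.symm hp₁ne) (fun e => hp₁ne ?_)
      (Ne.symm hne) hzpt hp₁ ?_)
    · exact MulAction.injective x (e.symm.trans hxpt.symm)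
    · rw [← mul_smul, hYcomm z hz x ⟨hx, CAGroup.smul_pt_iff.mp hxpt⟩, mul_smul, hp₁]
  have hex : ∀ p : G ⧸ Hn, ∃ p' : G ⧸ Hn, p' ≠ p ∧ (∀ x ∈ X, x • p = p → x • p' = p') ∧
      ∃ w ∈ X, w ≠ 1 ∧ w • p = p := by
    intro p
    obtain ⟨a, ha, rfl⟩ := htrans p
    refine ⟨a • p₁, fun e => hp₁ne (MulAction.injective a e), fun x hx hfx => ?_,
      a * z * a⁻¹, mul_mem (mul_mem ha hz.1) (inv_mem ha), fun e => hz1 (conj_eq_one_iff.mp e), ?_⟩
    · have := hbase (a⁻¹ * x * a) (mul_mem (mul_mem (inv_mem ha) hx) ha)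
        (by rw [mul_smul, mul_smul, hfx, inv_smul_smul])
      rw [mul_smul, mul_smul, inv_smul_eq_iff] at this
      exact this
    · rw [mul_smul, mul_smul, inv_smul_smul, hzpt]
  choose f hf1 hf2 hf3 using hex
  have huniq : ∀ p q : G ⧸ Hn, q ≠ p → (∀ x ∈ X, x • p = p → x • q = q) → q = f p := by
    intro p q hq hfix
    by_contra hne
    obtain ⟨w, hw, hw1, hwp⟩ := hf3 p
    exact hw1 (CAGroup.three_fixed h hq.symm (hf1 p).symm hne hwp (hfix w hw hwp) (hf2 p w hw hwp))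
  haveI : MulAction.IsPretransitive X (G ⧸ Hn) := ⟨fun p q => by
    obtain ⟨a, ha, rfl⟩ := htrans p
    obtain ⟨b, hb, rfl⟩ := htrans q
    exact ⟨⟨b, hb⟩ * ⟨a, ha⟩⁻¹, show (b * a⁻¹) • a • pt = b • pt by rw [mul_smul, inv_smul_smul]⟩⟩
  have hinv : ∀ p, f (f p) = p := by
    intro p
    refine (huniq (f p) p (hf1 p).symm ?_).symm
    have hle : MulAction.stabilizer X p ≤ MulAction.stabilizer X (f p) := fun x hx =>
      MulAction.mem_stabilizer_iff.mpr (hf2 p x x.2 (MulAction.mem_stabilizer_iff.mp hx))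
    have heq : MulAction.stabilizer X p = MulAction.stabilizer X (f p) := by
      refine Subgroup.eq_of_le_of_card_ge hle (le_of_eq ?_)
      have h1 := (MulAction.stabilizer X p).index_mul_card
      rw [MulAction.index_stabilizer_of_transitive, ← (MulAction.stabilizer X (f p)).index_mul_card,
        MulAction.index_stabilizer_of_transitive] at h1
      exact (Nat.eq_of_mul_eq_mul_left Nat.card_pos h1).symm
    intro x hx hxf
    have : (⟨x, hx⟩ : X) ∈ MulAction.stabilizer X (f p) := MulAction.mem_stabilizer_iff.mpr hxf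
    rw [← heq] at this
    exact MulAction.mem_stabilizer_iff.mp this
  haveI := Fintype.ofFinite (G ⧸ Hn)
  have hsum : ∑ _p : G ⧸ Hn, (1 : ZMod 2) = 0 :=
    Finset.sum_involution (fun p _ => f p) (fun _ _ => by decide) (fun p _ _ => hf1 p) (fun _ _ => Finset.mem_univ _)
      (fun p _ => hinv p)
  rw [Finset.sum_const, Finset.card_univ, ← Nat.card_eq_fintype_card, CAGroup.card_coset h, nsmul_one,
    ZMod.natCast_eq_zero_iff_even] at hsum
  obtain ⟨n, hn⟩ := IsPGroup.iff_card.mp T.2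
  have h4 := CAGroup.card_T h
  rw [hn] at hsum h4
  rcases n with _ | n
  · norm_num at h4
  · obtain ⟨k, hk⟩ := hsum
    rw [pow_succ] at hk
    omega

end CfsgLib.AbInvCent
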