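import Cfsg.Agent.Lib.AbInvCent.Zass
import Cfsg.Agent.Lib.AbInvCent.NoOdd

/-!
Groups with abelian involution centralisers: modulo the centre the involution centralisers are elementary
abelian 2-groups.
-/

set_option autoImplicit false
set_option linter.unusedSectionVars false
set_option linter.style.haveILetI false

namespace CfsgLib.AbInvCent

open Cfsg Subgroup
open CfsgLib.Involutions (mul_self_eq_one_of_orderOf inv_eq_self_of_orderOf orderOf_conj)

universe v

variable {G : Type v} [Group G] [Finite G] {T : Sylow 2 G}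

/-- The centre has odd order. -/
theorem center_odd (h : Hyp T) {z : G} (hz : z ∈ Subgroup.center G) : Odd (orderOf z) := by
  rw [← Nat.not_even_iff_odd]
  intro he
  obtain ⟨m, hm⟩ := he
  have hpos := orderOf_pos z
  have ho : orderOf (z ^ m) = 2 := by
    rw [orderOf_pow' z (by omega), hm, Nat.gcd_eq_right (show m ∣ m + m from ⟨2, by ring⟩),
      show m + m = 2 * m by ring, Nat.mul_div_cancel _ (by omega)]
  have hc := Subgroup.mem_center_iff.mp (pow_mem hz m)
  have hab : ∀ a b : G, a * b = b * a := fun a b => cent_comm h ho (hc a) (hc b)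
  exact h.nn ⟨fun t ht g => by rwa [hab g t, mul_inv_cancel_right]⟩

theorem center_eq_one_of_sq (h : Hyp T) {z : G} (hz : z ∈ Subgroup.center G) (h2 : z * z = 1) : z = 1 := by
  by_contra hz1
  have := center_odd h hz
  rw [Involutions.orderOf_eq_two_iff'.mpr ⟨h2, hz1⟩] at this
  exact absurd this (by decide)

/-- An involution of the central quotient lifts to an involution. -/
theorem exists_lift (h : Hyp T) {x : G ⧸ Subgroup.center G} (hx : orderOf x = 2) :
    ∃ t : G, orderOf t = 2 ∧ (t : G ⧸ Subgroup.center G) = x := by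
  obtain ⟨g, rfl⟩ := QuotientGroup.mk_surjective x
  have hz : g * g ∈ Subgroup.center G := (QuotientGroup.eq_one_iff _).mp (by
    rw [QuotientGroup.mk_mul]; exact mul_self_eq_one_of_orderOf hx)
  obtain ⟨k, hk⟩ := center_odd h hz
  refine ⟨g ^ (2 * k + 1), Involutions.orderOf_eq_two_iff'.mpr ⟨?_, fun e => ?_⟩, ?_⟩
  · rw [← pow_add, show 2 * k + 1 + (2 * k + 1) = 2 * (2 * k + 1) by ring, pow_mul, sq, ← hk, pow_orderOf_eq_one]
  · have h1 : ((g : G ⧸ Subgroup.center G)) ^ (2 * k + 1) = 1 := by rw [← QuotientGroup.mk_pow, e]; rfl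
    have := orderOf_dvd_of_pow_eq_one h1
    rw [hx] at this
    omega
  · rw [QuotientGroup.mk_pow, pow_succ, pow_mul, sq, mul_self_eq_one_of_orderOf hx, one_pow, one_mul]

/-- Commuting with an involution modulo the centre. -/
theorem commute_of_mk (h : Hyp T) {t g : G} (ht : orderOf t = 2)
    (e : (g : G ⧸ Subgroup.center G) * (t : G ⧸ Subgroup.center G) =
      (t : G ⧸ Subgroup.center G) * (g : G ⧸ Subgroup.center G)) : g * t = t * g := by
  rw [← QuotientGroup.mk_mul, ← QuotientGroup.mk_mul, QuotientGroup.eq] at e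
  have hz := Subgroup.mem_center_iff.mp e
  set z := (g * t)⁻¹ * (t * g) with hzdef
  have h2 := mul_self_eq_one_of_orderOf ht
  have h3 : g⁻¹ * t * g = t * z := by rw [hzdef]; group
  have h4 : z * z = 1 := by
    calc z * z = (t * t) * (z * z) := by rw [h2, one_mul]
      _ = t * z * (t * z) := by rw [mul_assoc t z, ← mul_assoc z t, ← hz t]; group
      _ = g⁻¹ * (t * t) * g := by rw [← h3]; group
      _ = 1 := by rw [h2]; group
  have hz1 := center_eq_one_of_sq h e h4
  rw [hzdef] at hz1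
  exact inv_mul_eq_one.mp hz1

theorem center_inf_T (h : Hyp T) {x : G} (hx : x ∈ T) (hc : x ∈ Subgroup.center G) : x = 1 := by
  by_contra hx1
  obtain ⟨k, hk⟩ := IsPGroup.iff_orderOf.mp T.2 ⟨x, hx⟩
  rw [Subgroup.orderOf_mk] at hk
  have hodd := center_odd h hc
  rcases k with _ | k
  · exact hx1 (orderOf_eq_one_iff.mp (by rw [hk, pow_zero]))
  · rw [hk, pow_succ] at hodd
    exact absurd (Nat.odd_mul.mp hodd).2 (by decide)

/-- The image of the Sylow subgroup in the central quotient. -/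
noncomputable abbrev Tbar (T : Sylow 2 G) : Sylow 2 (G ⧸ Subgroup.center G) :=
  haveI : Fact (Nat.Prime 2) := ⟨Nat.prime_two⟩
  T.mapSurjective (QuotientGroup.mk'_surjective (Subgroup.center G))

theorem mem_Tbar {t : G} (ht : t ∈ T) : (t : G ⧸ Subgroup.center G) ∈ Tbar T := ⟨t, ht, rfl⟩

/-- The central quotient satisfies the hypotheses. -/
theorem quot (h : Hyp T) : Hyp (Tbar T) := by
  refine ⟨fun hc => h.nc ?_, fun hn => h.nn ?_, fun x hx => ?_⟩
  · let f : ↥(T : Subgroup G) →* ↥((Tbar T : Sylow 2 (G ⧸ Subgroup.center G)) : Subgroup (G ⧸ Subgroup.center G)) :=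
      ((QuotientGroup.mk' (Subgroup.center G)).comp (T : Subgroup G).subtype).codRestrict _ fun t => mem_Tbar t.2
    refine isCyclic_of_injective f ((injective_iff_map_eq_one f).mpr fun t ht => Subtype.ext
      (center_inf_T h t.2 ((QuotientGroup.eq_one_iff _).mp (congrArg Subtype.val ht))))
  · refine ⟨fun t ht g => ?_⟩
    have hm := hn.conj_mem (t : G ⧸ Subgroup.center G) (mem_Tbar ht) (g : G ⧸ Subgroup.center G)
    obtain ⟨t', ht', e⟩ := hm
    have e' : (t' : G ⧸ Subgroup.center G) = ((g * t * g⁻¹ : G) : G ⧸ Subgroup.center G) := e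
    rw [QuotientGroup.eq] at e'
    have hc := Subgroup.mem_center_iff.mp e'
    obtain ⟨k, hk⟩ := IsPGroup.iff_orderOf.mp T.2 ⟨t, ht⟩
    obtain ⟨l, hl⟩ := IsPGroup.iff_orderOf.mp T.2 ⟨t', ht'⟩
    rw [Subgroup.orderOf_mk] at hk hl
    have h2 : (t'⁻¹ * (g * t * g⁻¹)) ^ 2 ^ (k + l) = 1 := by
      have hcom : Commute t' (t'⁻¹ * (g * t * g⁻¹)) := hc t'
      have e1 : (g * t * g⁻¹) ^ 2 ^ (k + l) = 1 := by
        rw [conj_pow, orderOf_dvd_iff_pow_eq_one.mp (hk ▸ pow_dvd_pow 2 (Nat.le_add_right k l))]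
        group
      have e2 := hcom.mul_pow (2 ^ (k + l))
      rw [mul_inv_cancel_left, e1, orderOf_dvd_iff_pow_eq_one.mp (hl ▸ pow_dvd_pow 2 (Nat.le_add_left l k)), one_mul] at e2
      exact e2.symm
    obtain ⟨m, -, hm⟩ := (Nat.dvd_prime_pow Nat.prime_two).mp (orderOf_dvd_of_pow_eq_one h2)
    have h1 : t'⁻¹ * (g * t * g⁻¹) = 1 := by
      rcases m with _ | m
      · exact orderOf_eq_one_iff.mp (by rw [hm, pow_zero])
      · have := center_odd h e'
        rw [hm, pow_succ] at this
        exact absurd (Nat.odd_mul.mp this).2 (by decide)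
    rw [← inv_mul_eq_one.mp h1]
    exact ht'
  · obtain ⟨t, ht, rfl⟩ := exists_lift h hx
    refine ⟨⟨?_⟩⟩
    rintro ⟨a, ha⟩ ⟨b, hb⟩
    obtain ⟨a, rfl⟩ := QuotientGroup.mk_surjective a
    obtain ⟨b, rfl⟩ := QuotientGroup.mk_surjective b
    apply Subtype.ext
    show (a : G ⧸ Subgroup.center G) * (b : G ⧸ Subgroup.center G) = (b : G ⧸ Subgroup.center G) * (a : G ⧸ Subgroup.center G)
    rw [← QuotientGroup.mk_mul, ← QuotientGroup.mk_mul, cent_comm h ht
      (commute_of_mk h ht (mem_centralizer_singleton_iff.mp ha)) (commute_of_mk h ht (mem_centralizer_singleton_iff.mp hb))]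

/-- If the squares of `C(T)` are central, the central quotient is a CA-2-group. -/
theorem caHyp (h : Hyp T) (hsq : ∀ c ∈ Aa T, c * c ∈ Subgroup.center G) : CAGroup.Hyp (Tbar T) := by
  refine ⟨(quot h).nc, (quot h).nn, fun x hx => ⟨(quot h).cent x hx, fun c hc => ?_⟩⟩
  obtain ⟨t, ht, rfl⟩ := exists_lift h hx
  obtain ⟨c, rfl⟩ := QuotientGroup.mk_surjective c
  have hct := commute_of_mk h ht (mem_centralizer_singleton_iff.mp hc)
  obtain ⟨g, hg⟩ := exists_conj_T h ht
  have hto : orderOf (g⁻¹ * t * g) = 2 := by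
    have := orderOf_conj g⁻¹ t
    rw [inv_inv] at this
    rw [this, ht]
  have hcA : g⁻¹ * c * g ∈ Aa T := mem_A_of_commute h hg hto (by
    calc g⁻¹ * c * g * (g⁻¹ * t * g) = g⁻¹ * (c * t) * g := by group
      _ = g⁻¹ * (t * c) * g := by rw [hct]
      _ = _ := by group)
  have hz := (Subgroup.instNormalCenter (G := G)).conj_mem _ (hsq _ hcA) g
  rw [pow_two, ← QuotientGroup.mk_mul]
  exact (QuotientGroup.eq_one_iff _).mpr (by convert hz using 1; group)

theorem main_aux : ∀ (n : ℕ) (G : Type v) [Group G] [Finite G], Nat.card G = n → ∀ T : Sylow 2 G, Hyp T →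
    ∀ c ∈ Aa T, c * c ∈ Subgroup.center G := by
  intro n
  induction n using Nat.strong_induction_on with
  | _ n ih =>
    intro G _ _ hn T h c hc
    haveI : Fact (Nat.Prime 2) := ⟨Nat.prime_two⟩
    by_cases hZ : Subgroup.center G = ⊥
    swap
    · have hlt : Nat.card (G ⧸ Subgroup.center G) < n := by
        rw [← hn, Subgroup.card_eq_card_quotient_mul_card_subgroup (Subgroup.center G)]
        exact lt_mul_of_one_lt_right Nat.card_pos ((Subgroup.center G).one_lt_card_iff_ne_bot.mpr hZ)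
      have hcA : (c : G ⧸ Subgroup.center G) ∈ Aa (Tbar T) := by
        refine mem_A_iff.mpr ?_
        rintro _ ⟨t, ht, rfl⟩
        exact congrArg (QuotientGroup.mk' (Subgroup.center G)) (mem_A_iff.mp hc t ht)
      have hIH := ih _ hlt (G ⧸ Subgroup.center G) rfl (Tbar T) (quot h) _ hcA
      refine mem_of_commute_involutions h fun t ht => commute_of_mk h ht ?_
      rw [QuotientGroup.mk_mul]
      exact (Subgroup.mem_center_iff.mp hIH _).symm
    by_cases h2 : Small T
    · rw [exponent_two h h2 hc]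
      exact one_mem _
    exfalso
    simp only [Small, not_forall] at h2
    obtain ⟨b, hb, -, hb1, hbN⟩ := h2
    set M := Subgroup.centralizer ({b} : Set G) with hM
    have hAM : Aa T ≤ M := fun a ha => mem_centralizer_singleton_iff.mpr (A_comm h ha hb)
    have hTM : (T : Subgroup G) ≤ M := (T_le_A h).trans hAM
    have hMlt : Nat.card M < n := by
      rw [← hn]
      refine lt_of_le_of_ne (Nat.le_of_dvd Nat.card_pos M.card_subgroup_dvd_card) fun e => hb1 ?_
      rw [← Subgroup.mem_bot, ← hZ]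
      refine Subgroup.mem_center_iff.mpr fun g => mem_centralizer_singleton_iff.mp ?_
      show g ∈ M
      rw [Subgroup.eq_top_of_card_eq M e]
      exact Subgroup.mem_top g
    set TM : Sylow 2 M := T.subtype hTM with hTMdef
    have hTMc : (TM : Subgroup M) = (T : Subgroup G).subgroupOf M := rfl
    have hmemTM : ∀ x : M, x ∈ TM ↔ (x : G) ∈ T := fun x => Iff.rfl
    have hM' : Hyp TM := by
      refine ⟨fun hc => h.nc ?_, fun hn' => hbN fun m hm => ?_, fun t ht => ⟨⟨fun p q => ?_⟩⟩⟩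
      · rw [hTMc] at hc
        exact (Subgroup.subgroupOfEquivOfLe hTM).isCyclic.mp hc
      · refine Subgroup.mem_normalizer_iff.mpr fun x => ⟨fun hx => ?_, fun hx => ?_⟩
        · exact hn'.conj_mem ⟨x, hTM hx⟩ hx ⟨m, hm⟩
        · have := hn'.conj_mem ⟨m * x * m⁻¹, hTM hx⟩ hx ⟨m, hm⟩⁻¹
          have h' : (((⟨m, hm⟩⁻¹ * ⟨m * x * m⁻¹, hTM hx⟩ * ⟨m, hm⟩⁻¹⁻¹) : M) : G) ∈ T := this
          push_cast at h'
          exact (show x = m⁻¹ * (m * x * m⁻¹) * m⁻¹⁻¹ by group) ▸ h'
      · exact Subtype.ext (Subtype.ext (cent_comm h (t := (t : G)) (by rw [Subgroup.orderOf_coe, ht])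
          (congrArg Subtype.val (mem_centralizer_singleton_iff.mp p.2))
          (congrArg Subtype.val (mem_centralizer_singleton_iff.mp q.2))))
    -- `N ≤ M`
    have hNM : Nn T ≤ M := by
      intro x hx
      obtain ⟨s, hs, hso⟩ := exists_inv_mem hM'
      obtain ⟨w, hw, hwN⟩ := exists_u hM'
      have hto : orderOf (x * (s : G) * x⁻¹) = 2 := by rw [orderOf_conj, Subgroup.orderOf_coe, hso]
      have hxs : x * (s : G) * x⁻¹ ∈ T := inv_mem_T (mul_mem (mul_mem hx (Subgroup.le_normalizer hs)) (inv_mem hx)) hto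
      obtain ⟨d, -, e⟩ := StrongEmb.exists_conj_in_inter (se hM') hw hwN (Subgroup.le_normalizer hs) hso
        (t := ⟨_, hTM hxs⟩) (Subgroup.le_normalizer hxs) (by rw [Subgroup.orderOf_mk, hto])
      have e' : (d : G) * s * (d : G)⁻¹ = x * s * x⁻¹ := congrArg Subtype.val e
      have hA : (d : G)⁻¹ * x ∈ Aa T := mem_A_of_commute h (t := (s : G)) hs (by rw [Subgroup.orderOf_coe, hso]) (by
        calc (d : G)⁻¹ * x * s = (d : G)⁻¹ * (x * s * x⁻¹) * x := by group
          _ = (d : G)⁻¹ * (d * s * (d : G)⁻¹) * x := by rw [e']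
          _ = _ := by group)
      rw [show x = (d : G) * ((d : G)⁻¹ * x) by group]
      exact mul_mem d.2 (hAM hA)
    obtain ⟨s, hs, hso⟩ := exists_inv_mem h
    -- `M` is strongly embedded
    have hseM : IsStronglyEmbedded M := by
      refine ⟨fun e => ?_, even_iff_two_dvd.mpr (hso ▸ Subgroup.orderOf_dvd_natCard M (hTM hs)), fun g hg => ?_⟩
      · rw [e, Subgroup.card_top, hn] at hMlt
        exact lt_irrefl _ hMlt
      rw [← Nat.not_even_iff_odd]
      intro he
      obtain ⟨⟨t, ht⟩, hto⟩ := exists_prime_orderOf_dvd_card'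
        (G := ↥(M ⊓ M.map (MulAut.conj g).toMonoidHom)) 2 he.two_dvd
      rw [Subgroup.orderOf_mk] at hto
      obtain ⟨ht1, r, hr, est⟩ := ht
      have est' : g * r * g⁻¹ = t := est
      have hro : orderOf r = 2 := by rw [← hto, ← est', orderOf_conj]
      obtain ⟨m, hm⟩ := isConj_iff.mp (StrongEmb.all_isConj (se hM') (a := (⟨r, hr⟩ : M)) (b := ⟨s, hTM hs⟩)
        (by rw [Subgroup.orderOf_mk, hro]) (by rw [Subgroup.orderOf_mk, hso]))
      obtain ⟨m', hm'⟩ := isConj_iff.mp (StrongEmb.all_isConj (se hM') (a := (⟨t, ht1⟩ : M)) (b := ⟨s, hTM hs⟩)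
        (by rw [Subgroup.orderOf_mk, hto]) (by rw [Subgroup.orderOf_mk, hso]))
      have e1 : (m : G) * r * (m : G)⁻¹ = s := congrArg Subtype.val hm
      have e2 : (m' : G) * t * (m' : G)⁻¹ = s := congrArg Subtype.val hm'
      have hk : (m' : G) * g * (m : G)⁻¹ ∈ Aa T := mem_A_of_commute h hs hso (by
        calc (m' : G) * g * (m : G)⁻¹ * s = (m' : G) * g * (m : G)⁻¹ * (m * r * (m : G)⁻¹) := by rw [e1]
          _ = (m' : G) * (g * r * g⁻¹) * (m' : G)⁻¹ * (m' * g * (m : G)⁻¹) := by group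
          _ = s * (m' * g * (m : G)⁻¹) := by rw [est', e2])
      refine hg ?_
      rw [show g = (m' : G)⁻¹ * ((m' : G) * g * (m : G)⁻¹) * m by group]
      exact mul_mem (mul_mem (inv_mem m'.2) (hAM hk)) m.2
    obtain ⟨g, hg⟩ : ∃ g : G, g ∉ M := by
      by_contra hc'
      push Not at hc'
      exact hseM.1 ((Subgroup.eq_top_iff' _).mpr hc')
    set w := g * s * g⁻¹ with hw
    have hwo : orderOf w = 2 := by rw [hw, orderOf_conj, hso]
    have hwM : w ∉ M := fun hm => hg (StrongEmb.mem_of_conj hseM (hTM hs) hso hm)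
    -- the odd subgroup transitive on the involutions
    have hsq : ∀ c ∈ Aa TM, c * c ∈ Subgroup.center M := ih _ hMlt M rfl TM hM'
    set X := M ⊓ M.map (MulAut.conj w).toMonoidHom with hX
    refine odd_not_transitive (caHyp hM' hsq) ((X.subgroupOf M).map (QuotientGroup.mk' (Subgroup.center M))) ?_ ?_
    · refine (hseM.2.2 w hwM).of_dvd_nat ?_
      rw [← Nat.card_congr (Subgroup.subgroupOfEquivOfLe (inf_le_left : X ≤ M)).toEquiv]
      exact Subgroup.card_map_dvd _ _
    · intro p q hp hq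
      obtain ⟨p', hp', rfl⟩ := exists_lift hM' hp
      obtain ⟨q', hq', rfl⟩ := exists_lift hM' hq
      obtain ⟨d, hd, e⟩ := StrongEmb.exists_conj_in_inter hseM hwo hwM p'.2 (by rw [Subgroup.orderOf_coe, hp'])
        q'.2 (by rw [Subgroup.orderOf_coe, hq'])
      refine ⟨_, ⟨⟨d, hd.1⟩, Subgroup.mem_subgroupOf.mpr hd, rfl⟩, ?_⟩
      have e' : (⟨d, hd.1⟩ : M) * p' * (⟨d, hd.1⟩ : M)⁻¹ = q' := Subtype.ext e
      rw [← e']
      rfl

/-- In a group with abelian involution centralisers and a Sylow 2-subgroup neither cyclic nor normal, the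
squares of `C(T)` are central. -/
theorem sq_central (h : Hyp T) {c : G} (hc : c ∈ Aa T) : c * c ∈ Subgroup.center G :=
  main_aux _ G rfl T h c hc

end CfsgLib.AbInvCent
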