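import Cfsg.Agent.Lib.AbInvCent.Core
import Cfsg.Agent.Lib.Perm.ZassenhausAbelian

/-!
The case in which the centralisers of the odd elements of `C(T)` lie in the Sylow normaliser: `C(T)` is an
elementary abelian 2-group.
-/

set_option autoImplicit false
set_option linter.unusedSectionVars false
set_option linter.style.haveILetI false

namespace CfsgLib.AbInvCent

open Cfsg Subgroup
open CfsgLib.Involutions (mul_self_eq_one_of_orderOf inv_eq_self_of_orderOf orderOf_conj)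

variable {G : Type*} [Group G] [Finite G] {T : Sylow 2 G}

theorem exponent_two (h : Hyp T) (h2 : Small T) {a : G} (ha : a ∈ Aa T) : a * a = 1 := by
  classical
  obtain ⟨u, hu, huH⟩ := exists_u h
  have hu' := inv_eq_self_of_orderOf hu
  have hu2 := mul_self_eq_one_of_orderOf hu
  haveI := Fintype.ofFinite (G ⧸ Nn T)
  set x₀ : G ⧸ Nn T := ((1 : G) : G ⧸ Nn T) with hx₀
  set y₀ : G ⧸ Nn T := (u : G ⧸ Nn T) with hy₀
  have hfix : ∀ (x g : G), x • ((g : G ⧸ Nn T)) = (g : G ⧸ Nn T) ↔ g⁻¹ * x * g ∈ Nn T := by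
    intro x g
    rw [MulAction.Quotient.smul_coe, smul_eq_mul, QuotientGroup.eq, ← inv_mem_iff]
    simp [mul_assoc]
  have hfix₀ : ∀ x : G, x • x₀ = x₀ ↔ x ∈ Nn T := fun x => by rw [hx₀, hfix]; simp
  have hne₀ : ∀ g : G, (g : G ⧸ Nn T) ≠ x₀ ↔ g ∉ Nn T := fun g => by
    rw [ne_eq, hx₀, QuotientGroup.eq, mul_one, inv_mem_iff]
  have hy₀ne : y₀ ≠ x₀ := (hne₀ u).mpr huH
  have hD : ∀ k : G, (k • x₀ = x₀ ∧ k • y₀ = y₀) ↔ k ∈ Dd T u := by
    intro k
    rw [hfix₀, hy₀, hfix, hu']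
    exact ⟨fun hk => mem_Dd hu hk.1 hk.2, fun hk => ⟨hk.1, conj_mem_of_Dd hu hk⟩⟩
  have hcard : Fintype.card (G ⧸ Nn T) = Nat.card ↥(Aa T) + 1 := by
    rw [← Nat.card_eq_fintype_card, ← Subgroup.index_eq_card, index_N h h2]
  have heven : 2 ∣ Nat.card ↥(Aa T) := by
    obtain ⟨t, ht, hto⟩ := exists_inv_mem h
    exact hto ▸ Subgroup.orderOf_dvd_natCard _ (T_le_A h ht)
  -- `C(T)` is regular off the base point
  have hsemi : ∀ b ∈ Aa T, ∀ y : G ⧸ Nn T, y ≠ x₀ → b • y = y → b = 1 := by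
    intro b hb y hy hfy
    obtain ⟨g, rfl⟩ := QuotientGroup.mk_surjective y
    exact c1 h h2 hb ((hne₀ g).mp hy) ((hfix b g).mp hfy)
  have hreg : ∀ y z : G ⧸ Nn T, y ≠ x₀ → z ≠ x₀ → ∃! b : ↥(Aa T), (b : G) • y = z := by
    intro y z hy hz
    have hmem : ∀ b : ↥(Aa T), (b : G) • y ≠ x₀ := fun b e => hy (by
      rw [← inv_smul_smul (b : G) y, e]
      exact (hfix₀ _).mpr (inv_mem (A_le_N b.2)))
    let f : ↥(Aa T) → {w : G ⧸ Nn T // w ≠ x₀} := fun b => ⟨(b : G) • y, hmem b⟩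
    have hinj : Function.Injective f := by
      intro b c e
      have e' : (b : G) • y = (c : G) • y := congrArg Subtype.val e
      have := hsemi ((c : G)⁻¹ * b) (mul_mem (inv_mem c.2) b.2) y hy (by rw [mul_smul, e', inv_smul_smul])
      exact Subtype.ext (inv_mul_eq_one.mp this).symm
    have hsurj : Function.Surjective f := ((Nat.bijective_iff_injective_and_card f).mpr ⟨hinj, by
      rw [Nat.card_eq_fintype_card (α := {w : G ⧸ Nn T // w ≠ x₀}), Fintype.card_subtype_compl,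
        Fintype.card_subtype_eq, hcard, Nat.add_sub_cancel]⟩).2
    obtain ⟨b, hb⟩ := hsurj ⟨z, hz⟩
    refine ⟨b, congrArg Subtype.val hb, fun c hc => hinj ?_⟩
    rw [hb]
    exact Subtype.ext hc
  have hmove : ∀ p q : G ⧸ Nn T, p ≠ q → ∃ g : G, g • p = x₀ ∧ g • q = y₀ := by
    intro p q hpq
    obtain ⟨g, hg⟩ := MulAction.exists_smul_eq G p x₀
    have hgq : g • q ≠ x₀ := fun e => hpq (MulAction.injective g (hg.trans e.symm))
    obtain ⟨b, hb, -⟩ := hreg (g • q) y₀ hgq hy₀ne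
    exact ⟨(b : G) * g, by rw [mul_smul, hg, (hfix₀ _).mpr (A_le_N b.2)], by rw [mul_smul, hb]⟩
  have h2t : MulAction.IsMultiplyPretransitive G (G ⧸ Nn T) 2 := by
    rw [MulAction.is_two_pretransitive_iff]
    intro p q r s hpq hrs
    obtain ⟨g, hg1, hg2⟩ := hmove p q hpq
    obtain ⟨k, hk1, hk2⟩ := hmove r s hrs
    refine ⟨k⁻¹ * g, ?_, ?_⟩
    · rw [mul_smul, hg1, ← hk1, inv_smul_smul]
    · rw [mul_smul, hg2, ← hk2, inv_smul_smul]
  have h3 : ∀ g : G, ∀ p q r : G ⧸ Nn T, p ≠ q → q ≠ r → p ≠ r → g • p = p → g • q = q → g • r = r → g = 1 := by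
    intro g p q r hpq hqr hpr hp hq hr
    obtain ⟨m, hm1, hm2⟩ := hmove p q hpq
    set k := m * g * m⁻¹ with hk
    have hkfix : ∀ w : G ⧸ Nn T, g • w = w → k • (m • w) = m • w := fun w hw => by
      rw [hk, mul_smul, mul_smul, inv_smul_smul, hw]
    have hkD : k ∈ Dd T u := (hD k).mp ⟨by rw [← hm1]; exact hkfix p hp, by rw [← hm2]; exact hkfix q hq⟩
    have hz : m • r ≠ x₀ := fun e => hpr (MulAction.injective m (hm1.trans e.symm))
    obtain ⟨b, hb, -⟩ := hreg y₀ (m • r) hy₀ne hz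
    have hb1 : (b : G) ≠ 1 := fun e => by
      rw [e, one_smul] at hb
      exact hqr (MulAction.injective m (hm2.trans hb))
    have e1 : (k * b * k⁻¹) • y₀ = (b : G) • y₀ := by
      rw [mul_smul, mul_smul, inv_smul_eq_iff.mpr ((hD k).mpr hkD).2.symm, hb, hkfix r hr]
    have hcomm : k * b * k⁻¹ = b := by
      have := hsemi ((b : G)⁻¹ * (k * b * k⁻¹)) (mul_mem (inv_mem b.2) (N_conj_A hkD.1 b.2)) y₀ hy₀ne
        (by rw [mul_smul, e1, inv_smul_smul])
      exact (inv_mul_eq_one.mp this).symm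
    by_contra hg1
    exact hb1 (fpf h h2 hu huH b.2 hkD (fun e => hg1 (conj_eq_one_iff.mp e)) (mul_inv_eq_iff_eq_mul.mp hcomm).symm)
  have hfaith : FaithfulSMul G (G ⧸ Nn T) := by
    have hcore : (Nn T).normalCore = ⊥ := by
      refine (Subgroup.eq_bot_iff_forall _).mpr fun r hr => ?_
      have hn : ∀ x ∈ (Nn T).normalCore, x ∈ Dd T u := fun x hx => mem_Dd hu ((Nn T).normalCore_le hx) (by
        have := (Subgroup.normalCore_normal (Nn T)).conj_mem x hx u
        rw [hu'] at this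
        exact (Nn T).normalCore_le this)
      obtain ⟨s, hs, hso⟩ := exists_inv_mem h
      have hsA := T_le_A h hs
      have e : r * s * r⁻¹ * s⁻¹ = 1 :=
        D_inf_A h h2 hu huH (mul_mem (N_conj_A ((Nn T).normalCore_le hr) hsA) (inv_mem hsA)) (hn _ (by
          rw [show r * s * r⁻¹ * s⁻¹ = r * (s * r⁻¹ * s⁻¹) by group]
          exact mul_mem hr ((Subgroup.normalCore_normal (Nn T)).conj_mem _ (inv_mem hr) s)))
      exact D_inf_A h h2 hu huH (mem_A_of_commute h hs hso (mul_inv_eq_iff_eq_mul.mp (mul_inv_eq_one.mp e))) (hn r hr)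
    have hker : (MulAction.toPermHom G (G ⧸ Nn T)).ker = ⊥ := by rw [← Subgroup.normalCore_eq_ker, hcore]
    exact ⟨fun {a b} e => (MonoidHom.ker_eq_bot_iff _).mp hker (Equiv.ext e)⟩
  have hex : ∃ g : G, g ≠ 1 ∧ ∃ p q : G ⧸ Nn T, p ≠ q ∧ g • p = p ∧ g • q = q := by
    obtain ⟨d, hd, hd1⟩ := exists_D_ne_one h h2 hu huH
    exact ⟨d, hd1, x₀, y₀, hy₀ne.symm, (hD d).mpr hd⟩
  have hnr : ∀ M : Subgroup G, M.Normal → MulAction.IsPretransitive M (G ⧸ Nn T) →
      ∃ p : G ⧸ Nn T, MulAction.stabilizer M p ≠ ⊥ := by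
    intro M hM htr
    refine ⟨x₀, fun hst => ?_⟩
    have hMN : ∀ m ∈ M, m ∈ Nn T → m = 1 := by
      intro m hm hmN
      have : (⟨m, hm⟩ : M) ∈ MulAction.stabilizer M x₀ :=
        MulAction.mem_stabilizer_iff.mpr ((hfix₀ m).mpr hmN)
      rw [hst, Subgroup.mem_bot] at this
      exact congrArg Subtype.val this
    obtain ⟨s, hs, hso⟩ := exists_inv_mem h
    obtain ⟨t, ht, hto, hts⟩ : ∃ t ∈ T, orderOf t = 2 ∧ t ≠ s := by
      by_contra hc
      push Not at hc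
      have : Nat.card {t : G // orderOf t = 2 ∧ t ∈ Nn T} = 1 :=
        Nat.card_eq_one_iff_exists.mpr ⟨⟨s, hso, Subgroup.le_normalizer hs⟩, fun i =>
          Subtype.ext (hc i (inv_mem_T i.2.2 i.2.1) i.2.1)⟩
      have h5 : 2 ≤ Nat.card {t : G // orderOf t = 2 ∧ t ∈ Nn T} := two_le_ee h
      omega
    have hinv : ∀ j ∈ T, orderOf j = 2 → ∀ m ∈ M, j * m * j⁻¹ = m⁻¹ := by
      intro j hj hjo m hm
      let f : M → M := fun x => ⟨(x : G)⁻¹ * (j * x * j⁻¹), mul_mem (inv_mem x.2) (hM.conj_mem _ x.2 j)⟩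
      have hinj : Function.Injective f := by
        intro x y e
        have e' : (x : G)⁻¹ * (j * x * j⁻¹) = (y : G)⁻¹ * (j * y * j⁻¹) := congrArg Subtype.val e
        refine Subtype.ext (mul_inv_eq_one.mp (hMN _ (mul_mem y.2 (inv_mem x.2))
          (A_le_N (mem_A_of_commute h hj hjo ?_)))).symm
        calc (y : G) * (x : G)⁻¹ * j = y * ((x : G)⁻¹ * (j * x * j⁻¹)) * (j * (x : G)⁻¹) := by group
          _ = y * ((y : G)⁻¹ * (j * y * j⁻¹)) * (j * (x : G)⁻¹) := by rw [e']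
          _ = _ := by group
      obtain ⟨x, hx⟩ := Finite.injective_iff_surjective.mp hinj ⟨m, hm⟩
      have hx' : (x : G)⁻¹ * (j * x * j⁻¹) = m := congrArg Subtype.val hx
      have hj' := inv_eq_self_of_orderOf hjo
      rw [← hx', hj', mul_inv_rev, inv_inv, mul_inv_rev, mul_inv_rev, hj',
        show j * ((x : G)⁻¹ * (j * x * j)) * j = j * (x : G)⁻¹ * j * x * (j * j) by group,
        mul_self_eq_one_of_orderOf hjo, mul_one]
      group
    obtain ⟨m, hm⟩ := htr.exists_smul_eq x₀ y₀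
    have hm' : (m : G) • x₀ = y₀ := hm
    have hm1 : (m : G) ≠ 1 := fun e => hy₀ne (by rw [← hm', e, one_smul])
    refine hm1 (hMN m m.2 (cent_le h h2 (mul_mem (T_le_A h ht) (T_le_A h hs))
      (fun e => hts (by rw [eq_inv_of_mul_eq_one_left e, inv_eq_self_of_orderOf hso])) ?_))
    have e1 := hinv t ht hto (m : G)⁻¹ (inv_mem m.2)
    rw [inv_inv] at e1
    have e2 := hinv s hs hso m m.2
    calc (m : G) * (t * s) = t * (m : G)⁻¹ * t⁻¹ * (t * s) := by rw [e1]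
      _ = t * ((m : G)⁻¹ * s) := by group
      _ = t * (s * m * s⁻¹ * s) := by rw [e2]
      _ = t * s * m := by group
  have hZ : Cfsg.IsZassenhausGroup G (G ⧸ Nn T) := ⟨hfaith, h2t, h3, hex, hnr⟩
  have hstab : MulAction.stabilizer G x₀ = Nn T := by
    ext g
    exact MulAction.mem_stabilizer_iff.trans (hfix₀ g)
  have hAab : IsMulCommutative ↥(Aa T) := ⟨⟨fun b c => Subtype.ext (A_comm h b.2 c.2)⟩⟩
  have hAn : ((Aa T).subgroupOf (MulAction.stabilizer G x₀)).Normal := by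
    rw [hstab]
    exact ⟨fun b hb g => mem_subgroupOf.mpr (N_conj_A g.2 (mem_subgroupOf.mp hb))⟩
  rcases CfsgLib.ZassenhausAbelian.cases hZ x₀ (Aa T) (A_le_N.trans hstab.ge) hAn hAab hreg with
    ⟨y, hxy, hd, -⟩ | ⟨y, -, -, p, f, K, iK, iF, hp, hp2, -, hΩ, -⟩
  · obtain ⟨b, hb, -⟩ := hreg y₀ y hy₀ne hxy.symm
    have hde : Nat.card ↥(MulAction.stabilizer G x₀ ⊓ MulAction.stabilizer G y) = ee T := by
      rw [← card_D h h2 hu huH]
      refine Nat.card_congr (Equiv.subtypeEquiv (MulAut.conj ((b : G))⁻¹).toEquiv fun k => ?_)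
      show _ ↔ (b : G)⁻¹ * k * (b : G)⁻¹⁻¹ ∈ Dd T u
      rw [← hD, inv_inv, Subgroup.mem_inf, MulAction.mem_stabilizer_iff, MulAction.mem_stabilizer_iff,
        mul_smul, mul_smul, mul_smul, mul_smul, (hfix₀ _).mpr (A_le_N b.2), hb, inv_smul_eq_iff,
        inv_smul_eq_iff, (hfix₀ _).mpr (A_le_N b.2), hb]
    rw [hde, hcard] at hd
    by_cases ha1 : a = 1
    · rw [ha1, mul_one]
    let g : {t : G // orderOf t = 2 ∧ t ∈ Nn T} → {c : ↥(Aa T) // c ≠ 1} := fun t =>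
      ⟨⟨t, T_le_A h (inv_mem_T t.2.2 t.2.1)⟩, fun e => by
        have h4 := t.2.1
        rw [show (t : G) = 1 from congrArg Subtype.val e, orderOf_one] at h4
        omega⟩
    have hg : Function.Bijective g := by
      refine (Nat.bijective_iff_injective_and_card g).mpr
        ⟨fun s t e => Subtype.ext (congrArg (fun c : {c : ↥(Aa T) // c ≠ 1} => ((c : ↥(Aa T)) : G)) e), ?_⟩
      haveI := Fintype.ofFinite ↥(Aa T)
      rw [Nat.card_eq_fintype_card (α := {c : ↥(Aa T) // c ≠ 1}), Fintype.card_subtype_compl,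
        Fintype.card_subtype_eq, ← Nat.card_eq_fintype_card (α := ↥(Aa T))]
      show ee T = _
      omega
    obtain ⟨t, ht⟩ := hg.2 ⟨⟨a, ha⟩, fun e => ha1 (congrArg Subtype.val e)⟩
    have e : (t : G) = a := congrArg (fun c : {c : ↥(Aa T) // c ≠ 1} => ((c : ↥(Aa T)) : G)) ht
    rw [← e]
    exact mul_self_eq_one_of_orderOf t.2.1
  · exfalso
    rw [hcard] at hΩ
    have hodd : Odd (p ^ f) := (hp.odd_of_ne_two hp2).pow
    obtain ⟨m, hm⟩ := hodd
    obtain ⟨k, hk⟩ := heven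
    omega

end CfsgLib.AbInvCent
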